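import Cfsg.Agent.H122.S5.Rows
import Cfsg.Agent.ChevalleyStructure.StBasic
import Cfsg.Agent.S1077
import Cfsg.Agent.S1061

/-!
# S2274, X2: subsystem subgroups of type `D₄` (helper122)

* `EmbS D D' l σ` : a subsystem with signs; `EmbS.pi : D.SteinbergGroup F →* ↥(D'.group F)`;
* `quasi` : the image is quasisimple and `|D.group F|` is the order of the central quotient.
-/

set_option autoImplicit false
set_option linter.unusedSectionVars false

namespace Cfsg.Agent.H122.S5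

open Subgroup Cfsg Cfsg.Lie Cfsg.Agent.ChevalleyStructure.Elts
open Cfsg.Agent.ChevalleyStructure Cfsg.Agent.ChevalleyStructure.StBasic
open scoped commutatorElement

universe u

/-- the root -/
def io (l : List ℕ) (r : ℕ) : ℕ := l.getD r 0

/-- the sign -/
def si (σ : List ℤ) (r : ℕ) : ℤ := σ.getD r 1

/-- the expected commutator terms -/
def ctm (D : ChevalleyDatum) (l : List ℕ) (σ : List ℤ) (r s : ℕ) : List (ℕ × ℤ × ℕ × ℕ) :=
  (D.commTerms r s).map fun c => (io l c.1, c.2.1 * (si σ r * si σ s * si σ c.1), c.2.2)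

/-- a subsystem with signs, all commutator terms linear -/
structure EmbS (D D' : ChevalleyDatum) (l : List ℕ) (σ : List ℤ) : Prop where
  lt : ∀ r : Fin D.nroots, io l r < D'.nroots
  inj : ∀ r s : Fin D.nroots, io l s = io l r → s = r
  neg : ∀ r : Fin D.nroots, D.neg r < D.nroots ∧ D'.neg (io l r) = io l (D.neg r) ∧ si σ (D.neg r) = si σ r ∧
    (si σ r = 1 ∨ si σ r = -1)
  comm : ∀ r s : Fin D.nroots, ((s : ℕ) ≠ r ∧ (s : ℕ) ≠ D.neg r) → D'.commTerms (io l r) (io l s) = ctm D l σ r s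
  one : ∀ r s : Fin D.nroots, ((s : ℕ) ≠ r ∧ (s : ℕ) ≠ D.neg r) → ∀ c ∈ D.commTerms r s,
    c.1 < D.nroots ∧ c.2.2 = (1, 1)

/-- every root is a sum of two roots -/
def PerfB (D : ChevalleyDatum) : Prop := ∀ k : Fin D.nroots, ∃ r s : Fin D.nroots, (s : ℕ) ≠ r ∧ (s : ℕ) ≠ D.neg r ∧
  (D.commTerms r s = [((k : ℕ), 1, 1, 1)] ∨ D.commTerms r s = [((k : ℕ), -1, 1, 1)])

instance instDecPerfB (D : ChevalleyDatum) : Decidable (PerfB D) := by unfold PerfB; infer_instance

theorem perf_d4 : PerfB chevD4 := by decide +kernel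

section

variable {D D' : ChevalleyDatum} (hD' : InList D') {F : Type u} [Field F] {l : List ℕ} {σ : List ℤ}

/-- the images of the generators -/
def gx (D : ChevalleyDatum) (l : List ℕ) (σ : List ℤ) (r : ℕ) (t : F) : ↥(D'.group F) :=
  if r < D.nroots then xe hD' F (io l r) ((si σ r : F) * t) else 1

theorem gx_lt {r : ℕ} (hr : r < D.nroots) (t : F) : gx hD' D l σ r t = xe hD' F (io l r) ((si σ r : F) * t) :=
  if_pos hr

theorem gx_not_lt {r : ℕ} (hr : ¬ r < D.nroots) (t : F) : gx hD' D l σ r t = 1 := if_neg hr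

theorem si_sq (h : EmbS D D' l σ) {r : ℕ} (hr : r < D.nroots) : ((si σ r : ℤ) : F) * (si σ r : F) = 1 := by
  rcases (h.neg ⟨r, hr⟩).2.2.2 with e | e <;> (simp only at e; rw [e]; norm_num)

/-- the word of the terms -/
theorem word_eq {σr σs : F} (hr : σr * σr = 1) (hs : σs * σs = 1) {a b : ℤ} (ha : (a : F) = σr) (hb : (b : F) = σs)
    (h : EmbS D D' l σ) (t u : F) : ∀ T : List (ℕ × ℤ × ℕ × ℕ), (∀ c ∈ T, c.1 < D.nroots ∧ c.2.2 = (1, 1)) →
    D'.wordMat F ((T.map fun c => (io l c.1, c.2.1 * (a * b * si σ c.1), c.2.2)).map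
      fun c => (c.1, (c.2.1 : F) * (-(σr * t)) ^ c.2.2.1 * (σs * u) ^ c.2.2.2)) =
    ((((T.map fun c => (c.1, (c.2.1 : F) * (-t) ^ c.2.2.1 * u ^ c.2.2.2)).map
      fun p => gx hD' D l σ p.1 p.2).prod : ↥(D'.group F)) : GL D'.Idx F).1
  | [], _ => by
    simp [ChevalleyDatum.wordMat]
  | c :: T, hT => by
    have ih := word_eq hr hs ha hb h t u T fun x hx => hT x (List.mem_cons_of_mem _ hx)
    obtain ⟨h1, h2⟩ := hT c List.mem_cons_self
    simp only [List.map_cons, List.prod_cons, ChevalleyDatum.wordMat] at ih ⊢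
    rw [ih, gx_lt hD' h1, h2]
    have e : ((c.2.1 * (a * b * si σ c.1) : ℤ) : F) * (-(σr * t)) ^ 1 * (σs * u) ^ 1 =
        (si σ c.1 : F) * ((c.2.1 : F) * (-t) ^ 1 * u ^ 1) := by
      push_cast
      rw [ha, hb]
      linear_combination (-(c.2.1 : F) * (si σ c.1 : F) * t * u * (σs * σs)) * hr +
        (-(c.2.1 : F) * (si σ c.1 : F) * t * u) * hs
    rw [show ((c.2.1 * (a * b * si σ c.1) : ℤ) : F) * (-(σr * t)) ^ ((1 : ℕ), (1 : ℕ)).1 * (σs * u) ^ ((1 : ℕ), (1 : ℕ)).2 =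
      ((c.2.1 * (a * b * si σ c.1) : ℤ) : F) * (-(σr * t)) ^ 1 * (σs * u) ^ 1 from rfl, e]
    rfl

/-- the sign of `h` -/
theorem h_sign {r : ℕ} (hr : r < D'.nroots) {a : F} (ha : a = 1 ∨ a = -1) {u : F} (hu : u ≠ 0) :
    nG hD' r (a * u) * nG hD' r (-a) = hG hD' r u := by
  have hn1 : nG hD' r (-1 : F) * nG hD' r (1 : F) = 1 := by
    have h1 : hG hD' r (1 : F) * hG hD' r (1 : F) = hG hD' r (1 : F) := by
      apply Units.ext
      rw [Units.val_mul, coe_hG]
      have := S1076.result (F := F) D' hD' _ hr 1 1 one_ne_zero one_ne_zero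
      rw [this, mul_one]
    have h2 : hG hD' r (1 : F) = 1 := mul_eq_left.1 h1
    rw [hG_def] at h2
    exact mul_eq_one_comm.1 h2
  have hmul : ∀ a b : F, a ≠ 0 → b ≠ 0 → hG hD' r a * hG hD' r b = hG hD' r (a * b) := by
    intro a b ha hb
    apply Units.ext
    rw [Units.val_mul, coe_hG, coe_hG, coe_hG]
    exact S1076.result D' hD' _ hr _ _ ha hb
  have hnh : ∀ a : F, nG hD' r a = hG hD' r a * nG hD' r 1 := by
    intro a
    rw [hG_def, mul_assoc, hn1, mul_one]
  rcases ha with rfl | rfl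
  · rw [one_mul, hG_def]
  · rw [_root_.neg_neg, neg_one_mul, hnh (-u), mul_assoc]
    have h3 : hG hD' r (-1 : F) * (nG hD' r (1 : F) * nG hD' r 1) = 1 := by
      rw [hG_def, mul_assoc, ← mul_assoc (nG hD' r (-1 : F)) (nG hD' r (1 : F)), hn1, one_mul, hn1]
    have h4 := hmul u (-1) hu (neg_ne_zero.2 one_ne_zero)
    rw [mul_neg, mul_one] at h4
    rw [← h4, mul_assoc, h3, mul_one]

theorem hword (h : EmbS D D' l σ) {r : ℕ} (hr : r < D.nroots) {t : F} (ht : t ≠ 0) :
    ((((D.hWord r t).map fun p => gx hD' D l σ p.1 p.2).prod : ↥(D'.group F)) : GL D'.Idx F) = hG hD' (io l r) t := by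
  obtain ⟨h1, h2, h3, h4⟩ := h.neg ⟨r, hr⟩
  simp only at h1 h2 h3 h4
  have hs := si_sq (F := F) h hr
  have hinv : ((si σ r : ℤ) : F)⁻¹ = (si σ r : F) := inv_eq_of_mul_eq_one_left hs
  have ha : ((si σ r : ℤ) : F) = 1 ∨ ((si σ r : ℤ) : F) = -1 := by
    rcases h4 with e | e
    · left; rw [e, Int.cast_one]
    · right; rw [e, Int.cast_neg, Int.cast_one]
  rw [← h_sign hD' (h.lt ⟨r, hr⟩) ha ht]
  have hn : ∀ u : F, ((((D.nWord r u).map fun p => gx hD' D l σ p.1 p.2).prod : ↥(D'.group F)) : GL D'.Idx F) =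
      nG hD' (io l r) ((si σ r : F) * u) := by
    intro u
    change (((([(r, u), (D.neg r, -u⁻¹), (r, u)] : List (ℕ × F)).map fun p => gx hD' D l σ p.1 p.2).prod :
      ↥(D'.group F)) : GL D'.Idx F) = _
    simp only [List.map_cons, List.map_nil, List.prod_cons, List.prod_nil, mul_one]
    rw [gx_lt hD' hr, gx_lt hD' h1, nG_def, h2, h3, mul_inv, hinv, mul_neg]
    rw [Subgroup.coe_mul, Subgroup.coe_mul]
    rfl
  change (((((D.nWord r t) ++ D.nWord r (-1) : List (ℕ × F)).map fun p => gx hD' D l σ p.1 p.2).prod :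
    ↥(D'.group F)) : GL D'.Idx F) = _
  rw [List.map_append, List.prod_append, Subgroup.coe_mul, hn, hn, mul_neg, mul_one]

/-- **the homomorphism** -/
noncomputable def EmbS.pi (h : EmbS D D' l σ) : D.SteinbergGroup F →* ↥(D'.group F) :=
  lift D (gx hD' D l σ) (fun _ t hr => gx_not_lt hD' hr t)
    (fun r t₁ t₂ hr => by rw [gx_lt hD' hr, gx_lt hD' hr, gx_lt hD' hr, xe_add, mul_add])
    (fun r s t u hr hs hne hneg => by
      have hne' : io l s ≠ io l r := fun e => hne (congrArg Fin.val (h.inj ⟨r, hr⟩ ⟨s, hs⟩ e))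
      have hneg' : io l s ≠ D'.neg (io l r) := by
        rw [(h.neg ⟨r, hr⟩).2.1]
        exact fun e => hneg (congrArg Fin.val (h.inj ⟨D.neg r, (h.neg ⟨r, hr⟩).1⟩ ⟨s, hs⟩ e))
      have key := S1025.result (F := F) D' hD' _ _ (h.lt ⟨r, hr⟩) (h.lt ⟨s, hs⟩) hne' hneg'
        ((si σ r : F) * t) ((si σ s : F) * u)
      have hw : D'.wordMat F (D'.commWord F (io l r) (io l s) ((si σ r : F) * t) ((si σ s : F) * u)) =
          ((((D.commWord F r s t u).map fun p => gx hD' D l σ p.1 p.2).prod : ↥(D'.group F)) : GL D'.Idx F).1 := by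
        rw [ChevalleyDatum.commWord, h.comm ⟨r, hr⟩ ⟨s, hs⟩ ⟨hne, hneg⟩]
        exact word_eq hD' (si_sq h hr) (si_sq h hs) rfl rfl h t u _ (h.one ⟨r, hr⟩ ⟨s, hs⟩ ⟨hne, hneg⟩)
      rw [hw] at key
      rw [gx_lt hD' hs, gx_lt hD' hr]
      have key' : xe hD' F (io l s) ((si σ s : F) * u) * xe hD' F (io l r) ((si σ r : F) * t) =
          xe hD' F (io l r) ((si σ r : F) * t) * xe hD' F (io l s) ((si σ s : F) * u) *
            (((D.commWord F r s t u).map fun p => gx hD' D l σ p.1 p.2).prod) := by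
        apply Subtype.ext
        apply Units.ext
        exact key
      rw [mul_assoc, key']
      group)
    (fun r t₁ t₂ hr h₁ h₂ => by
      apply Subtype.ext
      rw [Subgroup.coe_mul, hword hD' h hr h₁, hword hD' h hr h₂, hword hD' h hr (mul_ne_zero h₁ h₂)]
      apply Units.ext
      rw [Units.val_mul, coe_hG, coe_hG, coe_hG]
      exact S1076.result D' hD' _ (h.lt ⟨r, hr⟩) _ _ h₁ h₂)

theorem EmbS.pi_gen (h : EmbS D D' l σ) {r : ℕ} (hr : r < D.nroots) (t : F) :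
    h.pi hD' (D.stGen F r t) = xe hD' F (io l r) ((si σ r : F) * t) := by
  unfold EmbS.pi
  rw [lift_stGen, gx_lt hD' hr]

/-- the list of the roots -/
def rts (D : ChevalleyDatum) (l : List ℕ) : List ℕ := (List.range D.nroots).map (io l)

theorem EmbS.range_pi (h : EmbS D D' l σ) : (h.pi hD' (F := F)).range = sub hD' F (rts D l) := by
  apply le_antisymm
  · rw [MonoidHom.range_eq_map, Subgroup.map_le_iff_le_comap]
    refine le_of_eq_of_le (closure_stGen D).symm ?_
    rw [Subgroup.closure_le]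
    rintro _ ⟨r, t, hr, rfl⟩
    rw [SetLike.mem_coe, Subgroup.mem_comap, h.pi_gen hD' hr]
    exact Subgroup.subset_closure ⟨_, List.mem_map.2 ⟨r, List.mem_range.2 hr, rfl⟩, _, rfl⟩
  · unfold sub
    rw [Subgroup.closure_le]
    rintro _ ⟨s, hs, t, rfl⟩
    obtain ⟨r, hr, rfl⟩ := List.mem_map.1 hs
    have hr' := List.mem_range.1 hr
    refine ⟨D.stGen F r ((si σ r : F) * t), ?_⟩
    rw [h.pi_gen hD' hr', ← mul_assoc, si_sq h hr', one_mul]

/-- the presented group is perfect -/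
theorem perf_st (hP : PerfB D) : commutator (D.SteinbergGroup F) = ⊤ := by
  rw [eq_top_iff]
  refine le_of_eq_of_le (closure_stGen D).symm ?_
  rw [Subgroup.closure_le]
  rintro _ ⟨k, t, hk, rfl⟩
  obtain ⟨r, s, hne, hneg, hc⟩ := hP ⟨k, hk⟩
  have hb : ∃ b : F, wd D (D.commWord F r s b 1) = D.stGen F k t := by
    rcases hc with hc | hc
    · refine ⟨-t, ?_⟩
      rw [ChevalleyDatum.commWord, hc]
      simp only [List.map_cons, List.map_nil, wd_singleton]
      congr 1
      norm_num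
    · refine ⟨t, ?_⟩
      rw [ChevalleyDatum.commWord, hc]
      simp only [List.map_cons, List.map_nil, wd_singleton]
      congr 1
      norm_num
  obtain ⟨b, hb⟩ := hb
  have key := stGen_comm (K := F) D r.2 s.2 hne hneg b 1
  rw [hb] at key
  rw [SetLike.mem_coe, ← key]
  have e2 : (D.stGen F s 1)⁻¹ * (D.stGen F r b)⁻¹ * D.stGen F s 1 * D.stGen F r b =
      ⁅(D.stGen F s 1)⁻¹, (D.stGen F r b)⁻¹⁆ := by
    rw [commutatorElement_def, inv_inv, inv_inv]
  rw [e2]
  exact Subgroup.commutator_mem_commutator (Subgroup.mem_top _) (Subgroup.mem_top _)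

end

/-! ### quasisimple images -/

theorem qs_image {St G T : Type*} [Group St] [Group G] [Group T] (θ : St →* G) (hθ : Function.Surjective θ)
    (hk : θ.ker = center St) (hperf : commutator St = ⊤) [IsSimpleGroup G] (φ : St →* T) (hne : ∃ x, φ x ≠ 1) :
    IsQuasisimple ↥φ.range ∧ Nonempty ((↥φ.range ⧸ center ↥φ.range) ≃* G) := by
  have hs := φ.rangeRestrict_surjective
  have hSt : Group.IsPerfect St := ⟨hperf⟩
  have hL : Group.IsPerfect ↥φ.range := Group.IsPerfect.ofSurjective (f := φ.rangeRestrict) hs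
  let ψ : St →* ↥φ.range ⧸ center ↥φ.range := (QuotientGroup.mk' _).comp φ.rangeRestrict
  have hψ : Function.Surjective ψ := (QuotientGroup.mk'_surjective _).comp hs
  have hmem : ∀ x, x ∈ ψ.ker ↔ φ.rangeRestrict x ∈ center ↥φ.range := by
    intro x
    rw [MonoidHom.mem_ker, MonoidHom.comp_apply, ← MonoidHom.mem_ker, QuotientGroup.ker_mk']
  have h1 : θ.ker ≤ ψ.ker := by
    rw [hk]
    intro z hz
    rw [hmem, mem_center_iff]
    intro y
    obtain ⟨x, rfl⟩ := hs y
    rw [← map_mul, ← map_mul, (mem_center_iff.1 hz x)]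
  have h2 : ψ.ker = θ.ker := by
    have hN : (ψ.ker.map θ).Normal := Subgroup.Normal.map inferInstance θ hθ
    rcases hN.eq_bot_or_eq_top with h3 | h3
    · exact le_antisymm ((Subgroup.map_eq_bot_iff _).1 h3) h1
    · exfalso
      have h4 : ψ.ker = ⊤ := by
        rw [eq_top_iff]
        intro x _
        obtain ⟨y, hy, hxy⟩ : θ x ∈ ψ.ker.map θ := h3 ▸ mem_top _
        have h5 : x * y⁻¹ ∈ θ.ker := by rw [MonoidHom.mem_ker, map_mul, map_inv, hxy, mul_inv_cancel]
        have h6 := ψ.ker.mul_mem (h1 h5) hy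
        rwa [inv_mul_cancel_right] at h6
      have h5 : center ↥φ.range = ⊤ := by
        rw [eq_top_iff]
        intro y _
        obtain ⟨x, rfl⟩ := hs y
        exact (hmem x).1 (h4 ▸ mem_top x)
      have h6 := hL.commutator_eq_top
      rw [(commutator_eq_bot_iff_center_eq_top _).2 h5] at h6
      obtain ⟨x, hx⟩ := hne
      have h7 : φ.rangeRestrict x ∈ (⊥ : Subgroup ↥φ.range) := h6 ▸ mem_top _
      exact hx (congrArg Subtype.val (mem_bot.1 h7))
  have e : (↥φ.range ⧸ center ↥φ.range) ≃* G :=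
    ((QuotientGroup.quotientKerEquivOfSurjective ψ hψ).symm.trans (QuotientGroup.quotientMulEquivOfEq h2)).trans
      (QuotientGroup.quotientKerEquivOfSurjective θ hθ)
  exact ⟨⟨hL, e.isSimpleGroup⟩, ⟨e⟩⟩

/-- a factor, second form -/
structure Fac2 {S : Type*} [Group S] (p c : ℕ) (L : Subgroup S) : Prop where
  qs : IsQuasisimple ↥L
  pp : PP p c (Nat.card (↥L ⧸ center ↥L))

section

variable {S : Type*} [Group S] [Finite S] {p : ℕ}

/-- the product of two commuting subgroups -/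
theorem card_sup {A B : Subgroup S} (hc : ∀ a ∈ A, ∀ b ∈ B, a * b = b * a) :
    Nat.card (↥A ⧸ center ↥A) * Nat.card B ∣ Nat.card ↥(A ⊔ B) := by
  let f : ↥A × ↥B →* S := MonoidHom.noncommCoprod A.subtype B.subtype fun a b => hc a a.2 b b.2
  have hf : f.range = A ⊔ B := by
    have h1 : f.range = A.subtype.range ⊔ B.subtype.range := MonoidHom.noncommCoprod_range _ _ _
    rw [h1]
    exact congrArg₂ (· ⊔ ·) (Subgroup.range_subtype A) (Subgroup.range_subtype B)
  have hk : Nat.card f.ker ∣ Nat.card (center ↥A) := by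
    let g : ↥f.ker →* ↥(center ↥A) :=
      { toFun := fun x => ⟨(x : ↥A × ↥B).1, by
          have h1 : (((x : ↥A × ↥B).1 : S)) * ((x : ↥A × ↥B).2 : S) = 1 := x.2
          rw [mem_center_iff]
          intro a
          apply Subtype.ext
          rw [Subgroup.coe_mul, Subgroup.coe_mul, eq_inv_of_mul_eq_one_left h1]
          exact hc a a.2 _ (B.inv_mem (x : ↥A × ↥B).2.2)⟩
        map_one' := rfl
        map_mul' := fun _ _ => rfl }
    have hg : Function.Injective g := by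
      intro x y hxy
      have h1 : (((x : ↥A × ↥B).1 : S)) * ((x : ↥A × ↥B).2 : S) = 1 := x.2
      have h2 : (((y : ↥A × ↥B).1 : S)) * ((y : ↥A × ↥B).2 : S) = 1 := y.2
      have h3 : (x : ↥A × ↥B).1 = (y : ↥A × ↥B).1 := congrArg (fun u : ↥(center ↥A) => (u : ↥A)) hxy
      have h4 : ((x : ↥A × ↥B).2 : S) = ((y : ↥A × ↥B).2 : S) := by
        rw [eq_inv_of_mul_eq_one_right h1, eq_inv_of_mul_eq_one_right h2, h3]
      exact Subtype.ext (Prod.ext h3 (Subtype.ext h4))
    exact card_dvd_of_injective g hg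
  have h1 := f.ker.card_mul_index
  rw [index_ker, hf, Nat.card_prod, ← (center ↥A).card_mul_index] at h1
  obtain ⟨k, hk⟩ := hk
  rw [hk] at h1
  have h2 : Nat.card f.ker * Nat.card ↥(A ⊔ B) = Nat.card f.ker * (k * (center ↥A).index * Nat.card B) := by
    rw [h1]; ring
  have h3 := Nat.eq_of_mul_eq_mul_left (Nat.card_pos (α := f.ker)) h2
  exact ⟨k, by rw [h3]; change _ = (center ↥A).index * _ * _; ring⟩

/-- the product of a list of pairwise commuting factors -/
theorem pp_list2 (hp : p.Prime) {c : ℕ} (hc0 : c ≠ 0) : ∀ Ls : List (Subgroup S), (∀ L ∈ Ls, Fac2 p c L) →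
    Ls.Pairwise (fun A B => ∀ a ∈ A, ∀ b ∈ B, a * b = b * a) →
    PP p (c ^ Ls.length) (Nat.card ↥(Ls.foldr (· ⊔ ·) ⊥))
  | [], _, _ => by
    rw [List.length_nil, pow_zero]
    exact PP.of_dvd (one_dvd _)
  | L :: Ls, hF, hc => by
    rw [List.pairwise_cons] at hc
    have h1 := pp_list2 hp hc0 Ls (fun L' h => hF L' (List.mem_cons_of_mem _ h)) hc.2
    have hL := hF L List.mem_cons_self
    have h2 : ∀ a ∈ L, ∀ b ∈ (Ls.foldr (· ⊔ ·) ⊥ : Subgroup S), a * b = b * a := by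
      have h3 : (Ls.foldr (· ⊔ ·) ⊥ : Subgroup S) ≤ centralizer (L : Set S) := by
        have h4 : ∀ Ms : List (Subgroup S), (∀ M ∈ Ms, M ≤ centralizer (L : Set S)) →
            (Ms.foldr (· ⊔ ·) ⊥ : Subgroup S) ≤ centralizer (L : Set S) := by
          intro Ms
          induction Ms with
          | nil => intro _; exact bot_le
          | cons M Ms ih =>
            intro h
            exact sup_le (h M List.mem_cons_self) (ih fun M' hM' => h M' (List.mem_cons_of_mem _ hM'))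
        refine h4 Ls fun M hM b hb => ?_
        rw [mem_centralizer_iff]
        intro a ha
        exact hc.1 M hM a ha b hb
      intro a ha b hb
      exact (mem_centralizer_iff.1 (h3 hb)) a ha
    rw [List.length_cons, pow_succ']
    exact (PP.mul hp hc0 (pow_ne_zero _ hc0) hL.pp h1).trans (PP.of_dvd (card_sup h2))

/-- `p` divides `|L / Z(L)|` -/
theorem Fac2.dvd {c : ℕ} {L : Subgroup S} (h : Fac2 p c L) (hpc : p ∣ c) : p ∣ Nat.card (↥L ⧸ center ↥L) := by
  have := h.pp 1 (by rwa [pow_one])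
  rwa [pow_one] at this

/-- **Commuting factors, second form.** -/
theorem edat2_of (hp : p.Prime) (hcen : center S = ⊥) {c m : ℕ} (hc0 : c ≠ 0) {A B : Subgroup S}
    {Ls : List (Subgroup S)} (hF : ∀ L ∈ A :: B :: Ls, Fac2 p c L)
    (hc : (A :: B :: Ls).Pairwise (fun A B => ∀ a ∈ A, ∀ b ∈ B, a * b = b * a)) (hpc : p ∣ c)
    (hS : Nat.card S ∣ c ^ (Ls.length + 2) * m) (hm : ¬ p ∣ m) : EDat p S := by
  have h1 := pp_list2 hp hc0 (A :: B :: Ls) hF hc
  have hA := hF A List.mem_cons_self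
  have hB := hF B (List.mem_cons_of_mem _ List.mem_cons_self)
  have hcA : ∀ B' ∈ B :: Ls, ∀ a ∈ A, ∀ b ∈ B', a * b = b * a := (List.pairwise_cons.1 hc).1
  have hBne : B ≠ ⊥ := by
    rintro rfl
    have h2 := hB.dvd hpc
    have h3 : Nat.card (↥(⊥ : Subgroup S) ⧸ center ↥(⊥ : Subgroup S)) = 1 := Nat.card_unique
    rw [h3] at h2
    exact hp.one_lt.ne' (Nat.dvd_one.1 h2)
  refine ⟨(A :: B :: Ls).foldr (· ⊔ ·) ⊥, A, ?_, ?_, hA.qs, hA.dvd hpc,
    card_lt hcen hBne (hcA B List.mem_cons_self)⟩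
  · refine index_of_pp hp (PP.trans (PP.trans (PP.of_dvd hS) ?_) h1)
    rw [List.length_cons, List.length_cons]
    exact PP.cancel hp hm (PP.of_dvd dvd_rfl)
  · have h2 : ∀ Ms : List (Subgroup S), (∀ M ∈ Ms, M ≤ normalizer (A : Set S)) →
        (Ms.foldr (· ⊔ ·) ⊥ : Subgroup S) ≤ normalizer (A : Set S) := by
      intro Ms
      induction Ms with
      | nil => intro _; exact bot_le
      | cons M Ms ih =>
        intro h
        exact sup_le (h M List.mem_cons_self) (ih fun M' hM' => h M' (List.mem_cons_of_mem _ hM'))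
    refine h2 _ fun M hM => ?_
    rcases List.mem_cons.1 hM with rfl | hM
    · exact le_normalizer
    · refine le_trans ?_ (centralizer_le_normalizer (A : Set S))
      intro b hb
      rw [mem_centralizer_iff]
      intro a ha
      exact hcA M hM a ha b hb

/-- one factor -/
theorem edat1_of (hp : p.Prime) {c m : ℕ} {L : Subgroup S} (hL : Fac2 p c L) (hpc : p ∣ c)
    (hS : Nat.card S ∣ c * m) (hm : ¬ p ∣ m) (hlt : Nat.card (↥L ⧸ center ↥L) < Nat.card S) : EDat p S := by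
  refine ⟨L, L, ?_, le_normalizer, hL.qs, hL.dvd hpc, hlt⟩
  refine index_of_pp hp (PP.trans (PP.trans (PP.of_dvd hS) (PP.cancel hp hm hL.pp)) (PP.of_dvd ?_))
  exact Dvd.intro_left _ (center ↥L).card_mul_index

end

/-! ### type `D₄` -/

section

variable {F : Type u} [Field F] [Fintype F] {p q : ℕ} (hq : Fintype.card F = q) (hp : p.Prime) (h5 : 5 ≤ p)

include hq

theorem qs_d4 {D' : ChevalleyDatum} (hD' : InList D') {l : List ℕ} {σ : List ℤ} (h : EmbS chevD4 D' l σ) :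
    IsQuasisimple ↥(sub hD' F (rts chevD4 l)) ∧
      Nat.card (↥(sub hD' F (rts chevD4 l)) ⧸ center ↥(sub hD' F (rts chevD4 l))) = Nat.card ↥(chevD4.group F) := by
  obtain ⟨θ, h1, h2, -⟩ := S1077.result (K := F) chevD4 (by simp)
  have : IsSimpleGroup ↥(chevD4.group F) := (S1054.result chevD4 (by simp)).1
  rw [← h.range_pi hD']
  obtain ⟨h3, ⟨e⟩⟩ := qs_image θ h1 h2 (perf_st perf_d4) (h.pi hD' (F := F)) ⟨chevD4.stGen F 0 1, by
    rw [h.pi_gen hD' (by decide)]
    intro h4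
    have h5 := xe_eq_one hD' F (h.lt ⟨0, by decide⟩) h4
    rw [mul_one] at h5
    have h6 := si_sq (F := F) h (r := 0) (by decide)
    rw [h5, mul_zero] at h6
    exact zero_ne_one h6⟩
  exact ⟨h3, Nat.card_congr e.toEquiv⟩

include hp h5

theorem fac_d4 {D' : ChevalleyDatum} (hD' : InList D') {l : List ℕ} {σ : List ℤ} (h : EmbS chevD4 D' l σ) :
    Fac2 p ((q ^ 4 - 1) ^ 2) (sub hD' F (rts chevD4 l)) := by
  obtain ⟨h1, h2⟩ := qs_d4 hq hD' h
  refine ⟨h1, ?_⟩
  rw [h2]
  refine PP.of_mul hp (m := Nat.gcd 2 (q - 1) ^ 2) (fun h3 => ?_) (PP.of_dvd ?_)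
  · have h4 := (hp.dvd_of_dvd_pow h3).trans (Nat.gcd_dvd_left 2 (q - 1))
    have := Nat.le_of_dvd (by norm_num) h4
    omega
  · rw [S1061.result hq]
    exact ⟨q ^ 12 * (q ^ 2 - 1) * (q ^ 6 - 1), by ring⟩

end

theorem emb_f4 : EmbS chevD4 chevF4 [47, 24, 42, 31, 45, 22, 26, 43, 32, 46, 17, 6, 41, 30, 1, 15, 4, 21, 25, 2, 16, 5, 23, 0]
    [1, 1, 1, 1, 1, 1, -1, 1, 1, 1, 1, 1, 1, 1, 1, 1, 1, -1, 1, 1, 1, 1, 1, 1] where
  lt := by decide +kernel
  inj := by decide +kernel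
  neg := by decide +kernel
  comm := by decide +kernel
  one := by decide +kernel

theorem emb_e8a : EmbS chevD4 chevE8 [237, 117, 226, 159, 238, 119, 118, 227, 160, 239, 78, 11, 228, 161, 0, 79, 12, 121,
      120, 1, 80, 13, 122, 2]
    [-1, -1, 1, 1, 1, 1, 1, 1, 1, 1, 1, 1, 1, 1, 1, 1, 1, 1, 1, 1, 1, 1, -1, -1] where
  lt := by decide +kernel
  inj := by decide +kernel
  neg := by decide +kernel
  comm := by decide +kernel
  one := by decide +kernel

theorem emb_e8b : EmbS chevD4 chevE8 [147, 113, 142, 136, 152, 130, 108, 141, 135, 148, 102, 96, 143, 137, 91, 104, 98,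
      131, 109, 87, 103, 97, 126, 92] [] where
  lt := by decide +kernel
  inj := by decide +kernel
  neg := by decide +kernel
  comm := by decide +kernel
  one := by decide +kernel

section

variable {F : Type u} [Field F] [Fintype F] {p q : ℕ} (hq : Fintype.card F = q) (hp : p.Prime) (h5 : 5 ≤ p)

include hq

theorem d4_lt_f4 : Nat.card ↥(chevD4.group F) < Nat.card ↥(chevF4.group F) := by
  have hq2 := two_le_card hq
  have h1 := S1061.result hq
  have h2 := S1062.result hq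
  have hg : 1 ≤ Nat.gcd 2 (q - 1) ^ 2 := Nat.one_le_pow _ _ (Nat.gcd_pos_of_pos_left _ (by norm_num))
  have hA : 1 ≤ q ^ 2 - 1 := Nat.one_le_iff_ne_zero.2 (pow_sub_ne hq2 (by norm_num))
  have hC : 1 ≤ q ^ 6 - 1 := Nat.one_le_iff_ne_zero.2 (pow_sub_ne hq2 (by norm_num))
  have hB : 1 ≤ q ^ 4 - 1 := Nat.one_le_iff_ne_zero.2 (pow_sub_ne hq2 (by norm_num))
  have hB8 : q ^ 4 - 1 ≤ q ^ 8 - 1 := Nat.sub_le_sub_right (Nat.pow_le_pow_right (by omega) (by norm_num)) 1
  have hB12 : q ^ 4 - 1 ≤ q ^ 12 - 1 := Nat.sub_le_sub_right (Nat.pow_le_pow_right (by omega) (by norm_num)) 1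
  calc Nat.card ↥(chevD4.group F) ≤ Nat.gcd 2 (q - 1) ^ 2 * Nat.card ↥(chevD4.group F) := Nat.le_mul_of_pos_left _ hg
    _ = q ^ 12 * ((q ^ 2 - 1) * (q ^ 6 - 1) * ((q ^ 4 - 1) * (q ^ 4 - 1))) := by rw [h1]; ring
    _ < q ^ 24 * ((q ^ 2 - 1) * (q ^ 6 - 1) * ((q ^ 4 - 1) * (q ^ 4 - 1))) :=
      Nat.mul_lt_mul_of_pos_right (Nat.pow_lt_pow_right (by omega) (by norm_num)) (by positivity)
    _ ≤ q ^ 24 * ((q ^ 2 - 1) * (q ^ 6 - 1) * ((q ^ 8 - 1) * (q ^ 12 - 1))) :=
      Nat.mul_le_mul_left _ (Nat.mul_le_mul_left _ (Nat.mul_le_mul hB8 hB12))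
    _ = Nat.card ↥(chevF4.group F) := by rw [h2]; ring

include hp h5

/-- `F₄(q)`, `e = 4` -/
theorem edat_f4_four (he : orderOf ((q : ℕ) : ZMod p) = 4) : EDat p ↥(chevF4.group F) := by
  have := finite_group (D := chevF4) F
  have hD : InList chevF4 := by simp [InList]
  have hq2 := two_le_card hq
  obtain ⟨m, hm, h1⟩ := exists_bound hp (by omega) he (by norm_num) 24 [2, 6, 8, 12]
    (fun d hd hed => not_dvd_23 hp h5 (by revert d; decide))
  have hk : ([2, 6, 8, 12] : List ℕ).countP (fun d => decide (4 ∣ d)) = 2 := by decide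
  rw [hk] at h1
  refine edat1_of hp (fac_d4 hq hp h5 hD emb_f4) (dvd_pow ((dvd_iff (by omega) he 4).2 dvd_rfl) two_ne_zero)
    (h1 ▸ card_f4 hq) hm ?_
  rw [(qs_d4 hq hD emb_f4).2]
  exact d4_lt_f4 hq

/-- `E₈(q)`, `e = 4` -/
theorem edat_e8_four (hp5 : p ≠ 5) (he : orderOf ((q : ℕ) : ZMod p) = 4) : EDat p ↥(chevE8.group F) := by
  have := finite_group (D := chevE8) F
  have hD : InList chevE8 := by simp [InList]
  have hq2 := two_le_card hq
  obtain ⟨m, hm, h1⟩ := exists_bound hp (by omega) he (by norm_num) 120 [2, 8, 12, 14, 18, 20, 24, 30]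
    (fun d hd hed => by
      intro h
      have h1 : d / 4 ∣ 2 ^ 10 * 3 ^ 10 ∨ d / 4 = 5 := by clear h; revert d; decide
      rcases h1 with h1 | h1
      · exact not_dvd_23 hp h5 h1 h
      · rw [h1] at h
        exact hp5 ((Nat.prime_dvd_prime_iff_eq hp (by norm_num)).1 h))
  have hk : ([2, 8, 12, 14, 18, 20, 24, 30] : List ℕ).countP (fun d => decide (4 ∣ d)) = 4 := by decide
  rw [hk, show (q ^ 4 - 1) ^ 4 = ((q ^ 4 - 1) ^ 2) ^ (([] : List (Subgroup ↥(chevE8.group F))).length + 2) by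
    rw [← pow_mul]; rfl] at h1
  refine edat2_of hp (cen_of (by simp)) (pow_ne_zero 2 (pow_sub_ne hq2 (by norm_num)))
    (A := sub hD F (rts chevD4 [237, 117, 226, 159, 238, 119, 118, 227, 160, 239, 78, 11, 228, 161, 0, 79, 12, 121,
      120, 1, 80, 13, 122, 2]))
    (B := sub hD F (rts chevD4 [147, 113, 142, 136, 152, 130, 108, 141, 135, 148, 102, 96, 143, 137, 91, 104, 98,
      131, 109, 87, 103, 97, 126, 92])) (Ls := []) ?_ ?_
    (dvd_pow ((dvd_iff (by omega) he 4).2 dvd_rfl) two_ne_zero) (h1 ▸ card_e8 hq) hm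
  · intro L hL
    simp only [List.mem_cons, List.not_mem_nil, or_false] at hL
    rcases hL with rfl | rfl
    · exact fac_d4 hq hp h5 hD emb_e8a
    · exact fac_d4 hq hp h5 hD emb_e8b
  · have h2 := pairwise_of hD F (l := [rts chevD4 [237, 117, 226, 159, 238, 119, 118, 227, 160, 239, 78, 11, 228, 161, 0,
      79, 12, 121, 120, 1, 80, 13, 122, 2], rts chevD4 [147, 113, 142, 136, 152, 130, 108, 141, 135, 148, 102, 96, 143,
      137, 91, 104, 98, 131, 109, 87, 103, 97, 126, 92]]) (by decide +kernel)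
    exact h2

end

end Cfsg.Agent.H122.S5
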