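import Cfsg.Agent.H122.S5.DFour
import Cfsg.Agent.H129.FE.Grp
import Cfsg.Agent.H343.WitExc
import Cfsg.Agent.S1066
import Cfsg.Agent.S1070

/-!
# S2274, X2: `F₄(q)` in `E₆(q)` and `²E₆(q)` (helper122)

* `edat_simple` : a simple subgroup of index prime to `p`;
* `edat_e6_f4` : `E₆(q)`, `p ∣ |F₄(q)|`, `p ∤ q (q⁵ - 1) (q⁹ - 1)`;
* `edat_te6_f4` : `²E₆(q)`, `p ∣ |F₄(q)|`, `p ∤ q (q⁵ + 1) (q⁹ + 1)`.
-/

set_option autoImplicit false
set_option linter.unusedSectionVars false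

namespace Cfsg.Agent.H122.S5

open Subgroup Cfsg Cfsg.Lie Cfsg.Agent.ChevalleyStructure.Elts
open Cfsg.Agent.ChevalleyStructure

universe u

/-- **A simple subgroup of index prime to `p`.** -/
theorem edat_simple {S T : Type*} [Group S] [Finite S] [Group T] (hT : IsSimpleGroup T ∧ ¬ IsMulCommutative T)
    (f : T →* S) (hf : Function.Injective f) {p : ℕ} (hpT : p ∣ Nat.card T) {m : ℕ}
    (hS : Nat.card S ∣ Nat.card T * m) (hm : ¬ p ∣ m) (hlt : Nat.card T < Nat.card S) : EDat p S := by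
  have := hT.1
  have hfT : Finite T := Finite.of_injective f hf
  have hcen : center T = ⊥ := center_bot hT
  have hperf : commutator T = ⊤ := by
    rcases (inferInstance : (commutator T).Normal).eq_bot_or_eq_top with h | h
    · exact absurd ((commutator_eq_bot_iff_center_eq_top T).1 h) (by rw [hcen]; exact bot_ne_top)
    · exact h
  have hne : ∃ x, f x ≠ 1 := by
    obtain ⟨x, hx⟩ := exists_ne (1 : T)
    exact ⟨x, fun h => hx (hf (h.trans (map_one f).symm))⟩
  obtain ⟨h1, ⟨e⟩⟩ := qs_image (MonoidHom.id T) Function.surjective_id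
    (by rw [hcen, (MonoidHom.ker_eq_bot_iff _).2 Function.injective_id]) hperf f hne
  have hcard : Nat.card (↥f.range ⧸ center ↥f.range) = Nat.card T := Nat.card_congr e.toEquiv
  have hL : Nat.card ↥f.range = Nat.card T := (Nat.card_congr (MonoidHom.ofInjective hf).toEquiv).symm
  refine ⟨f.range, f.range, ?_, le_normalizer, h1, hcard ▸ hpT, hcard ▸ hlt⟩
  intro h2
  apply hm
  have h3 := f.range.card_mul_index
  rw [hL] at h3
  rw [← h3] at hS
  exact h2.trans (Nat.dvd_of_mul_dvd_mul_left Nat.card_pos hS)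

section

variable {F : Type u} [Field F] [Fintype F] {p q : ℕ} (hq : Fintype.card F = q) (hp : p.Prime)

include hq hp

/-- `E₆(q)` through `F₄(q)` -/
theorem edat_e6_f4 (hpF : p ∣ Nat.card ↥(chevF4.group F)) (h0 : ¬ p ∣ q) (h1 : ¬ p ∣ q ^ 5 - 1) (h2 : ¬ p ∣ q ^ 9 - 1) :
    EDat p ↥(chevE6.group F) := by
  have := finite_group (D := chevE6) F
  have := finite_group (D := chevF4) F
  have hq2 := two_le_card hq
  have hc : Nat.gcd 3 (q - 1) * Nat.card ↥(chevE6.group F) =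
      Nat.card ↥(chevF4.group F) * (q ^ 12 * (q ^ 5 - 1) * (q ^ 9 - 1)) := by
    rw [S1063.result hq, S1062.result hq]
    ring
  refine edat_simple (S1054.result chevF4 (by simp)) (H129.FE.toE6 F) (H129.FE.toE6_injective F) hpF
    (Dvd.intro_left _ hc) ?_ ?_
  · intro h
    rcases hp.dvd_mul.1 h with h | h
    · rcases hp.dvd_mul.1 h with h | h
      · exact h0 (hp.dvd_of_dvd_pow h)
      · exact h1 h
    · exact h2 h
  · have h5 : 1 ≤ q ^ 5 - 1 := Nat.one_le_iff_ne_zero.2 (pow_sub_ne hq2 (by norm_num))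
    have h9 : 1 ≤ q ^ 9 - 1 := Nat.one_le_iff_ne_zero.2 (pow_sub_ne hq2 (by norm_num))
    have hg : Nat.gcd 3 (q - 1) < q ^ 12 * (q ^ 5 - 1) * (q ^ 9 - 1) := by
      calc Nat.gcd 3 (q - 1) ≤ q - 1 := Nat.le_of_dvd (by omega) (Nat.gcd_dvd_right _ _)
        _ < q := by omega
        _ ≤ q ^ 12 := Nat.le_self_pow (by norm_num) q
        _ ≤ q ^ 12 * (q ^ 5 - 1) := Nat.le_mul_of_pos_right _ h5
        _ ≤ _ := Nat.le_mul_of_pos_right _ h9
    by_contra hcon
    push Not at hcon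
    have h3 : Nat.gcd 3 (q - 1) * Nat.card ↥(chevE6.group F) <
        Nat.card ↥(chevF4.group F) * (q ^ 12 * (q ^ 5 - 1) * (q ^ 9 - 1)) := by
      calc Nat.gcd 3 (q - 1) * Nat.card ↥(chevE6.group F) ≤ Nat.gcd 3 (q - 1) * Nat.card ↥(chevF4.group F) :=
            Nat.mul_le_mul_left _ hcon
        _ = Nat.card ↥(chevF4.group F) * Nat.gcd 3 (q - 1) := mul_comm _ _
        _ < _ := Nat.mul_lt_mul_of_pos_left hg Nat.card_pos
    exact h3.ne hc

end

section

variable {K : Type} [Field K] [Fintype K] {p q : ℕ} (hq : IsPrimePow q) (hK : Fintype.card K = q ^ 2) (hp : p.Prime)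

include hq hK hp

/-- `²E₆(q)` through `F₄(q)` -/
theorem edat_te6_f4 (hpF : p ∣ q ^ 24 * (([2, 6, 8, 12] : List ℕ).map fun d => q ^ d - 1).prod) (h0 : ¬ p ∣ q)
    (h1 : ¬ p ∣ q ^ 5 + 1) (h2 : ¬ p ∣ q ^ 9 + 1) :
    EDat p ↥(twistedE6 K q) := by
  obtain ⟨k, _, _, ι, hk, hι⟩ := Cfsg.Agent.H343.exists_subfield K hq two_ne_zero hK
  have : Finite ↥(twistedE6 K q) := by
    have : Finite (GL chevE6.Idx K) := inferInstance
    infer_instance
  have := finite_group (D := chevF4) k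
  have hq2 := two_le_card hk
  have hc : Nat.gcd 3 (q + 1) * Nat.card ↥(twistedE6 K q) =
      Nat.card ↥(chevF4.group k) * (q ^ 12 * (q ^ 5 + 1) * (q ^ 9 + 1)) := by
    rw [S1066.result hq hK, S1062.result hk]
    ring
  have hF : Nat.card ↥(chevF4.group k) = q ^ 24 * (([2, 6, 8, 12] : List ℕ).map fun d => q ^ d - 1).prod := by
    rw [S1062.result hk]
    simp only [List.map_cons, List.map_nil, List.prod_cons, List.prod_nil, mul_one, ← mul_assoc]
  refine edat_simple (S1054.result chevF4 (by simp)) (H129.FE.toTE6 ι hι) (H129.FE.toTE6_injective ι hι) (hF ▸ hpF)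
    (Dvd.intro_left _ hc) ?_ ?_
  · intro h
    rcases hp.dvd_mul.1 h with h | h
    · rcases hp.dvd_mul.1 h with h | h
      · exact h0 (hp.dvd_of_dvd_pow h)
      · exact h1 h
    · exact h2 h
  · have hg : Nat.gcd 3 (q + 1) < q ^ 12 * (q ^ 5 + 1) * (q ^ 9 + 1) := by
      calc Nat.gcd 3 (q + 1) ≤ q + 1 := Nat.le_of_dvd (by omega) (Nat.gcd_dvd_right _ _)
        _ < q ^ 5 + 1 + 1 := by
          have : q ≤ q ^ 5 := Nat.le_self_pow (by norm_num) q
          omega
        _ ≤ q ^ 12 * (q ^ 5 + 1) := by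
          have : 2 ^ 1 ≤ q ^ 12 := (Nat.pow_le_pow_right (by norm_num) (by norm_num)).trans (Nat.pow_le_pow_left hq2 12)
          have h3 : 2 * (q ^ 5 + 1) ≤ q ^ 12 * (q ^ 5 + 1) := Nat.mul_le_mul_right _ this
          omega
        _ ≤ _ := Nat.le_mul_of_pos_right _ (by positivity)
    by_contra hcon
    push Not at hcon
    have h3 : Nat.gcd 3 (q + 1) * Nat.card ↥(twistedE6 K q) <
        Nat.card ↥(chevF4.group k) * (q ^ 12 * (q ^ 5 + 1) * (q ^ 9 + 1)) := by
      calc Nat.gcd 3 (q + 1) * Nat.card ↥(twistedE6 K q) ≤ Nat.gcd 3 (q + 1) * Nat.card ↥(chevF4.group k) :=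
            Nat.mul_le_mul_left _ hcon
        _ = Nat.card ↥(chevF4.group k) * Nat.gcd 3 (q + 1) := mul_comm _ _
        _ < _ := Nat.mul_lt_mul_of_pos_left hg Nat.card_pos
    exact h3.ne hc

end

theorem not_dvd_add {p q e n : ℕ} (hq : 1 ≤ q) (h3 : 3 ≤ p) (he : orderOf ((q : ℕ) : ZMod p) = e)
    (h : e ∣ n ∨ ¬ e ∣ 2 * n) : ¬ p ∣ q ^ n + 1 := by
  intro h1
  have h0 : 1 ≤ q ^ n := Nat.one_le_pow _ _ hq
  rcases h with h | h
  · have h2 := (dvd_iff hq he n).2 h
    have h4 := Nat.dvd_sub h1 h2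
    rw [show q ^ n + 1 - (q ^ n - 1) = 2 by omega] at h4
    have := Nat.le_of_dvd (by norm_num) h4
    omega
  · apply h
    rw [← dvd_iff hq he, show q ^ (2 * n) - 1 = (q ^ n + 1) * (q ^ n - 1) by
      rw [two_mul, pow_add]
      exact Nat.mul_self_sub_mul_self_eq (q ^ n) 1]
    exact h1.mul_right _

theorem dvd_f4_num {p q e : ℕ} (hq : 1 ≤ q) (he : orderOf ((q : ℕ) : ZMod p) = e)
    (h : e ∣ 2 ∨ e ∣ 6 ∨ e ∣ 8 ∨ e ∣ 12) : p ∣ q ^ 24 * (([2, 6, 8, 12] : List ℕ).map fun d => q ^ d - 1).prod := by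
  refine Dvd.dvd.mul_left ?_ _
  simp only [List.map_cons, List.map_nil, List.prod_cons, List.prod_nil, mul_one]
  rcases h with h | h | h | h
  · exact ((dvd_iff hq he 2).2 h).mul_right _
  · exact (((dvd_iff hq he 6).2 h).mul_right _).mul_left _
  · exact ((((dvd_iff hq he 8).2 h).mul_right _).mul_left _).mul_left _
  · exact ((((dvd_iff hq he 12).2 h).mul_left _).mul_left _).mul_left _

/-- **`E₆(q)`, `e ∈ {2, 4, 6, 8, 12}`** -/
theorem edat_e6_even {F : Type u} [Field F] [Fintype F] {p q e : ℕ} (hq : Fintype.card F = q) (hp : p.Prime)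
    (he : orderOf ((q : ℕ) : ZMod p) = e) (h : e = 2 ∨ e = 4 ∨ e = 6 ∨ e = 8 ∨ e = 12) :
    EDat p ↥(chevE6.group F) := by
  have hq2 := two_le_card hq
  have h0 : 0 < e := by omega
  refine edat_e6_f4 hq hp ?_ ?_ ?_ ?_
  · rw [S1062.result hq]
    have h1 := dvd_f4_num (p := p) (q := q) (by omega) he (by
      rcases h with rfl | rfl | rfl | rfl | rfl <;> decide)
    simpa only [List.map_cons, List.map_nil, List.prod_cons, List.prod_nil, mul_one, ← mul_assoc] using h1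
  · have := not_dvd_q hp he h0 1
    rwa [pow_one] at this
  · rw [dvd_iff (by omega) he]
    rcases h with rfl | rfl | rfl | rfl | rfl <;> decide
  · rw [dvd_iff (by omega) he]
    rcases h with rfl | rfl | rfl | rfl | rfl <;> decide

/-- **`²E₆(q)`, `e ∈ {1, 3, 4, 8, 12}`** -/
theorem edat_te6 {K : Type} [Field K] [Fintype K] {p q e : ℕ} (hq : IsPrimePow q) (hK : Fintype.card K = q ^ 2)
    (hp : p.Prime) (h3 : 3 ≤ p) (he : orderOf ((q : ℕ) : ZMod p) = e) (h : e = 1 ∨ e = 3 ∨ e = 4 ∨ e = 8 ∨ e = 12) :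
    EDat p ↥(twistedE6 K q) := by
  have hq2 := hq.two_le
  have h0 : 0 < e := by omega
  refine edat_te6_f4 hq hK hp ?_ ?_ ?_ ?_
  · exact dvd_f4_num (by omega) he (by rcases h with rfl | rfl | rfl | rfl | rfl <;> decide)
  · have := not_dvd_q hp he h0 1
    rwa [pow_one] at this
  · exact not_dvd_add (by omega) h3 he (by rcases h with rfl | rfl | rfl | rfl | rfl <;> decide)
  · exact not_dvd_add (by omega) h3 he (by rcases h with rfl | rfl | rfl | rfl | rfl <;> decide)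

end Cfsg.Agent.H122.S5
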