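import Mathlib

/-!
# Numbers for S2274, X2 (helper122)

`exists_m` : if `e` is the order of `q` modulo `p`, then `∏ (q ^ d - 1) = (q ^ e - 1) ^ k * m`, `k` the number of
`d` divisible by `e`, `p ∤ m`.
-/

set_option autoImplicit false

namespace Cfsg.Agent.H122.S5

/-- geometric sums -/
def gs (Q k : ℕ) : ℕ := ∑ i ∈ Finset.range k, Q ^ i

theorem gs_mul {Q : ℕ} (hQ : 1 ≤ Q) (k : ℕ) : (Q - 1) * gs Q k = Q ^ k - 1 := by
  unfold gs
  obtain ⟨t, rfl⟩ := Nat.exists_eq_add_of_le' hQ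
  rw [Nat.add_sub_cancel]
  have h := Commute.mul_geom_sum₂ (Commute.one_right ((t : ℤ) + 1)) k
  have h2 : ((t : ℤ)) * ∑ i ∈ Finset.range k, ((t : ℤ) + 1) ^ i = ((t : ℤ) + 1) ^ k - 1 := by
    have := mul_geom_sum ((t : ℤ) + 1) k
    simpa using this
  zify [Nat.one_le_pow k (t + 1) (by omega)]
  push_cast
  exact h2

theorem gs_mod {p Q : ℕ} (h : ((Q : ℕ) : ZMod p) = 1) (k : ℕ) : ((gs Q k : ℕ) : ZMod p) = k := by
  unfold gs
  push_cast
  rw [h]
  simp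

theorem not_dvd_gs {p Q k : ℕ} (h : ((Q : ℕ) : ZMod p) = 1) (hk : ¬ p ∣ k) : ¬ p ∣ gs Q k := by
  intro hd
  apply hk
  have h1 := (ZMod.natCast_eq_zero_iff _ _).2 hd
  rw [gs_mod h] at h1
  exact (ZMod.natCast_eq_zero_iff _ _).1 h1

/-- `p` divides `q ^ d - 1` if and only if `e` divides `d` -/
theorem dvd_iff {p q e : ℕ} (hq : 1 ≤ q) (he : orderOf ((q : ℕ) : ZMod p) = e) (d : ℕ) :
    p ∣ q ^ d - 1 ↔ e ∣ d := by
  rw [← he, orderOf_dvd_iff_pow_eq_one, ← Nat.cast_pow]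
  have h1 : 1 ≤ q ^ d := Nat.one_le_pow _ _ hq
  constructor
  · intro h
    have h2 := (ZMod.natCast_eq_zero_iff _ _).2 h
    rw [Nat.cast_sub h1, Nat.cast_one] at h2
    exact sub_eq_zero.1 h2
  · intro h
    refine (ZMod.natCast_eq_zero_iff _ _).1 ?_
    rw [Nat.cast_sub h1, Nat.cast_one, h, sub_self]

theorem exists_m {p q e : ℕ} (hp : p.Prime) (hq : 1 ≤ q) (he : orderOf ((q : ℕ) : ZMod p) = e) :
    ∀ ds : List ℕ, (∀ d ∈ ds, e ∣ d → ¬ p ∣ d / e) → ∃ m, ¬ p ∣ m ∧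
      (ds.map fun d => q ^ d - 1).prod = (q ^ e - 1) ^ (ds.countP fun d => decide (e ∣ d)) * m
  | [], _ => ⟨1, fun h => hp.one_lt.ne' (Nat.dvd_one.1 h), by simp⟩
  | d :: ds, h => by
    obtain ⟨m, hm, h1⟩ := exists_m hp hq he ds fun x hx => h x (List.mem_cons_of_mem _ hx)
    rw [List.map_cons, List.prod_cons, h1, List.countP_cons]
    by_cases hd : e ∣ d
    · obtain ⟨k, rfl⟩ := hd
      have he0 : e ≠ 0 ∨ e = 0 := (em _).symm
      by_cases he0 : e = 0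
      · exfalso
        have h2 := h (e * k) List.mem_cons_self (Dvd.intro k rfl)
        rw [he0, Nat.div_zero] at h2
        exact h2 (dvd_zero p)
      have hk : ¬ p ∣ k := by
        have h2 := h (e * k) List.mem_cons_self (Dvd.intro k rfl)
        rwa [Nat.mul_div_cancel_left k (Nat.pos_of_ne_zero he0)] at h2
      have h3 : ((q ^ e : ℕ) : ZMod p) = 1 := by
        rw [Nat.cast_pow, ← he, pow_orderOf_eq_one]
      refine ⟨gs (q ^ e) k * m, fun hd => ?_, ?_⟩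
      · rcases hp.dvd_mul.1 hd with h4 | h4
        · exact not_dvd_gs h3 hk h4
        · exact hm h4
      · rw [pow_mul, ← gs_mul (Nat.one_le_pow e q hq) k, if_pos (by simp)]
        ring
    · refine ⟨(q ^ d - 1) * m, fun h2 => ?_, ?_⟩
      · rcases hp.dvd_mul.1 h2 with h4 | h4
        · exact hd ((dvd_iff hq he d).1 h4)
        · exact hm h4
      · rw [if_neg (by simpa using hd)]
        ring

theorem not_dvd_q {p q e : ℕ} (hp : p.Prime) (he : orderOf ((q : ℕ) : ZMod p) = e) (he0 : 0 < e) (n : ℕ) :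
    ¬ p ∣ q ^ n := by
  intro h
  have h1 := (ZMod.natCast_eq_zero_iff _ _).2 (hp.dvd_of_dvd_pow h)
  have : Fact p.Prime := ⟨hp⟩
  have h2 : ((q : ℕ) : ZMod p) ^ e = 1 := by rw [← he, pow_orderOf_eq_one]
  rw [h1, zero_pow he0.ne'] at h2
  exact zero_ne_one h2

theorem pow_sub_ne {q e : ℕ} (hq : 2 ≤ q) (he : 0 < e) : q ^ e - 1 ≠ 0 := by
  have : 2 ^ 1 ≤ q ^ e := (Nat.pow_le_pow_right (by norm_num) he).trans (Nat.pow_le_pow_left hq e)
  omega

/-- the bound for the order -/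
theorem exists_bound {p q e : ℕ} (hp : p.Prime) (hq : 1 ≤ q) (he : orderOf ((q : ℕ) : ZMod p) = e) (he0 : 0 < e)
    (N : ℕ) (ds : List ℕ) (h : ∀ d ∈ ds, e ∣ d → ¬ p ∣ d / e) : ∃ m, ¬ p ∣ m ∧
      q ^ N * (ds.map fun d => q ^ d - 1).prod = (q ^ e - 1) ^ (ds.countP fun d => decide (e ∣ d)) * m := by
  obtain ⟨m, hm, h1⟩ := exists_m hp hq he ds h
  refine ⟨q ^ N * m, fun h2 => ?_, by rw [h1]; ring⟩
  rcases hp.dvd_mul.1 h2 with h3 | h3
  · exact not_dvd_q hp he he0 N h3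
  · exact hm h3

end Cfsg.Agent.H122.S5
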