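import Cfsg.Agent.H122.S5.Sub
import Cfsg.Agent.H122.S5.Num
import Cfsg.Agent.SignalizersComponents.QsBasic
import Cfsg.Agent.S1054
import Cfsg.Agent.S1055
import Cfsg.Agent.S1059
import Cfsg.Agent.S1062
import Cfsg.Agent.S1063
import Cfsg.Agent.S1064
import Cfsg.Agent.S1065

/-!
# S2274, X2: the untwisted exceptional groups, abelian Sylow `p`-subgroups (helper122)

`e` is the order of `q` modulo `p`.
* `edat_g2` : `G₂(q)`, `e ∈ {1, 2}`; `edat_f4` : `e ∈ {1, 2, 3}`; `edat_e6` : `e ∈ {1, 2, 3}`; `edat_e7` : `e ∈ {1, 2, 3, 4}`;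
  `edat_e8` : `e ∈ {1, 2, 3, 5}`.
-/

set_option autoImplicit false
set_option linter.unusedSectionVars false

namespace Cfsg.Agent.H122.S5

open Subgroup Cfsg Cfsg.Lie Cfsg.Agent.ChevalleyStructure.Elts
open Cfsg.Agent.ChevalleyStructure

universe u

theorem Fac.mono {S : Type*} [Group S] [Finite S] {p c d : ℕ} {L : Subgroup S} (h : Fac p c L) (hd : d ∣ c) :
    Fac p d L := ⟨h.qs, fun k hk => h.pp k (hk.trans hd), h.z⟩

/-- transport of the data -/
theorem EDat.congr {p : ℕ} {S T : Type*} [Group S] [Group T] (e : T ≃* S) (h : EDat p S) : EDat p T := by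
  obtain ⟨M, L, h1, h2, h3, h4, h5⟩ := h
  have hs : Function.Surjective (e : T →* S) := e.surjective
  have e1 : ↥L ≃* ↥(L.comap (e : T →* S)) := ((e.subgroupMap (L.comap (e : T →* S))).trans
    (MulEquiv.subgroupCongr (map_comap_eq_self_of_surjective hs L))).symm
  have hc : Nat.card (↥L ⧸ center ↥L) = Nat.card (↥(L.comap (e : T →* S)) ⧸ center ↥(L.comap (e : T →* S))) :=
    Nat.card_congr (QuotientGroup.congr _ _ e1
      (SignalizersComponents.QsBasic.map_center_mulEquiv e1)).toEquiv
  refine ⟨M.comap (e : T →* S), L.comap (e : T →* S), ?_, ?_,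
    SignalizersComponents.QsBasic.isQuasisimple_of_mulEquiv e1 h3, hc ▸ h4, ?_⟩
  · rwa [index_comap_of_surjective _ hs]
  · have h6 : (normalizer (L : Set S)).comap (e : T →* S) = normalizer ((L.comap (e : T →* S) : Subgroup T) : Set T) :=
      comap_normalizer_eq_of_surjective L hs
    rw [← h6]
    exact comap_mono h2
  · rw [← hc, Nat.card_congr e.toEquiv]
    exact h5

theorem two_le_card {F : Type*} [Field F] [Fintype F] {q : ℕ} (hq : Fintype.card F = q) : 2 ≤ q :=
  hq ▸ Fintype.one_lt_card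

theorem pow_dvd {q e d : ℕ} (hq : 1 ≤ q) (h : e ∣ d) : q ^ e - 1 ∣ q ^ d - 1 := by
  obtain ⟨k, rfl⟩ := h
  rw [pow_mul, ← gs_mul (Nat.one_le_pow e q hq) k]
  exact Dvd.intro _ rfl

theorem center_bot {S : Type*} [Group S] (h : IsSimpleGroup S ∧ ¬ IsMulCommutative S) : center S = ⊥ := by
  have := h.1
  rcases Subgroup.Normal.eq_bot_or_eq_top (inferInstance : (center S).Normal) with h1 | h1
  · exact h1
  · exact absurd ⟨⟨fun a b => ((mem_center_iff.1 (h1 ▸ mem_top b)) a)⟩⟩ h.2

section

variable {D : ChevalleyDatum} (hD : InList D) {F : Type u} [Field F] [Fintype F] {p : ℕ} (hp : p.Prime) {q e : ℕ}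
  (hq : Fintype.card F = q) (he : orderOf ((q : ℕ) : ZMod p) = e) (he0 : 0 < e)

include hD hp hq he he0

/-- the general row -/
theorem gen_row (hcen : center ↥(D.group F) = ⊥) {N j : ℕ} {ds : List ℕ}
    (hcard : Nat.card ↥(D.group F) ∣ q ^ N * (ds.map fun d => q ^ d - 1).prod) (hds : ∀ d ∈ ds, e ∣ d → ¬ p ∣ d / e)
    {a b : List ℕ} {l : List (List ℕ)} (hF : ∀ x ∈ a :: b :: l, Fac p ((q ^ e - 1) ^ j) (sub hD F x))
    (hl : pairB D (a :: b :: l) = true) (hj : j ≠ 0)
    (hk : ds.countP (fun d => decide (e ∣ d)) = j * (l.length + 2)) : EDat p ↥(D.group F) := by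
  have := finite_group (D := D) F
  have hq2 := two_le_card hq
  obtain ⟨m, hm, h1⟩ := exists_bound hp (by omega) he he0 N ds hds
  have h2 := pairwise_of hD F hl
  rw [List.map_cons, List.map_cons] at h2
  refine edat_of hp hcen (pow_ne_zero _ (pow_sub_ne hq2 he0)) (A := sub hD F a) (B := sub hD F b)
    (Ls := l.map (sub hD F)) ?_ h2 (dvd_pow ((dvd_iff (by omega) he e).2 dvd_rfl) hj) ?_ hm
  · intro L hL
    have h3 : L ∈ (a :: b :: l).map (sub hD F) := by
      rw [List.map_cons, List.map_cons]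
      exact hL
    obtain ⟨x, hx, rfl⟩ := List.mem_map.1 h3
    exact hF x hx
  · rw [List.length_map, ← pow_mul, ← hk, ← h1]
    exact hcard

/-- factors of type `A₁`, `e ∈ {1, 2}` -/
theorem row_one (h5 : 5 ≤ p) (he2 : e ∣ 2) (hcen : center ↥(D.group F) = ⊥) {N : ℕ} {ds : List ℕ}
    (hcard : Nat.card ↥(D.group F) ∣ q ^ N * (ds.map fun d => q ^ d - 1).prod) (hds : ∀ d ∈ ds, e ∣ d → ¬ p ∣ d / e)
    {a b : ℕ} {l : List ℕ} (hlt : ∀ x ∈ a :: b :: l, x < D.nroots)
    (hl : pairB D ((a :: b :: l).map fun r => [r, D.neg r]) = true)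
    (hk : ds.countP (fun d => decide (e ∣ d)) = l.length + 2) : EDat p ↥(D.group F) := by
  have hq2 := two_le_card hq
  have hq4 : 4 ≤ q := by
    have h1 : p ∣ q ^ 2 - 1 := (dvd_iff (by omega) he 2).2 he2
    have h2 : q ^ 2 - 1 = (q - 1) * (q + 1) := by
      obtain ⟨t, rfl⟩ := Nat.exists_eq_add_of_le' hq2
      rw [show t + 2 - 1 = t + 1 by omega, show (t + 2) ^ 2 = (t + 1) * (t + 2 + 1) + 1 by ring]
      rfl
    rw [h2, hp.dvd_mul] at h1
    rcases h1 with h1 | h1
    · have := Nat.le_of_dvd (by omega) h1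
      omega
    · have := Nat.le_of_dvd (by omega) h1
      omega
  rw [List.map_cons, List.map_cons] at hl
  refine gen_row hD hp hq he he0 hcen hcard hds (j := 1) ?_ hl one_ne_zero (by
    rw [hk, List.length_map, one_mul])
  intro x hx
  have h3 : x ∈ (a :: b :: l).map fun r => [r, D.neg r] := by
    rw [List.map_cons, List.map_cons]
    exact hx
  obtain ⟨r, hr, rfl⟩ := List.mem_map.1 h3
  rw [pow_one]
  exact (fac_one hD F hq hq4 hp h5 (hlt r hr)).mono (pow_dvd (by omega) he2)

end

/-! ### types `Aₙ` -/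

section

variable {F : Type u} [Field F] [Fintype F] {q : ℕ} (hq : Fintype.card F = q)

include hq

theorem sl3_one : (q ^ 1 - 1) ^ 2 ∣ Nat.card (Matrix.SpecialLinearGroup (Fin 3) F) := by
  have h1 : 1 ≤ q := by have := two_le_card hq; omega
  rw [H953.card_SL 3 (by norm_num), hq, show Finset.Icc 2 3 = {2, 3} from rfl,
    Finset.prod_pair (by norm_num), pow_two]
  exact (mul_dvd_mul (pow_dvd h1 (by norm_num)) (pow_dvd h1 (by norm_num))).mul_left _

theorem sl_dvd {n e : ℕ} (hn : 1 ≤ n) (he : 2 ≤ e) (hen : e ≤ n) :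
    (q ^ e - 1) ^ 1 ∣ Nat.card (Matrix.SpecialLinearGroup (Fin n) F) := by
  rw [H953.card_SL n hn, hq, pow_one]
  exact (Finset.dvd_prod_of_mem (fun j => q ^ j - 1) (Finset.mem_Icc.2 ⟨he, hen⟩)).mul_left _

end

section

variable {D : ChevalleyDatum} (hD : InList D) {F : Type u} [Field F] [Fintype F] {p : ℕ} (hp : p.Prime) {q e : ℕ}
  (hq : Fintype.card F = q) (he : orderOf ((q : ℕ) : ZMod p) = e) (he0 : 0 < e)

include hD hp hq he he0

/-- factors of type `Aₙ₋₁` -/
theorem row_an (hcen : center ↥(D.group F) = ⊥) {N j n : ℕ} {ds : List ℕ} (hn : 3 ≤ n) (hpn : ¬ p ∣ n)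
    (hcard : Nat.card ↥(D.group F) ∣ q ^ N * (ds.map fun d => q ^ d - 1).prod) (hds : ∀ d ∈ ds, e ∣ d → ¬ p ∣ d / e)
    {a b : List (List ℕ)} {l : List (List (List ℕ))} (hR : ∀ R ∈ a :: b :: l, ∃ σ, IsAn D n R σ)
    (hl : pairB D ((a :: b :: l).map (lst n)) = true) (hj : j ≠ 0)
    (hc : (q ^ e - 1) ^ j ∣ Nat.card (Matrix.SpecialLinearGroup (Fin n) F))
    (hk : ds.countP (fun d => decide (e ∣ d)) = j * (l.length + 2)) : EDat p ↥(D.group F) := by
  rw [List.map_cons, List.map_cons] at hl
  refine gen_row hD hp hq he he0 hcen hcard hds (j := j) ?_ hl hj (by rw [hk, List.length_map])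
  intro x hx
  have h3 : x ∈ (a :: b :: l).map (lst n) := by
    rw [List.map_cons, List.map_cons]
    exact hx
  obtain ⟨R, hR', rfl⟩ := List.mem_map.1 h3
  obtain ⟨σ, h⟩ := hR R hR'
  exact fac_an hD F hp hn hpn h hc

end

theorem not_dvd_23 {p n : ℕ} (hp : p.Prime) (h5 : 5 ≤ p) (h : n ∣ 2 ^ 10 * 3 ^ 10) : ¬ p ∣ n := by
  intro h1
  rcases hp.dvd_mul.1 (h1.trans h) with h2 | h2
  · have := Nat.le_of_dvd (by norm_num) (hp.dvd_of_dvd_pow h2)
    omega
  · have := Nat.le_of_dvd (by norm_num) (hp.dvd_of_dvd_pow h2)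
    omega

theorem not_dvd_2357 {p n : ℕ} (hp : p.Prime) (h5 : 5 ≤ p) (hp5 : p ≠ 5) (hp7 : p ≠ 7) (h : n ∣ 2 ^ 10 * 3 ^ 10 * 5 ^ 10 * 7 ^ 10) :
    ¬ p ∣ n := by
  intro h1
  rcases hp.dvd_mul.1 (h1.trans h) with h2 | h2
  · rcases hp.dvd_mul.1 h2 with h2 | h2
    · exact not_dvd_23 hp h5 dvd_rfl h2
    · exact hp5 ((Nat.prime_dvd_prime_iff_eq hp (by norm_num)).1 (hp.dvd_of_dvd_pow h2))
  · exact hp7 ((Nat.prime_dvd_prime_iff_eq hp (by norm_num)).1 (hp.dvd_of_dvd_pow h2))

section

variable {F : Type u} [Field F] [Fintype F] {p q : ℕ} (hq : Fintype.card F = q) (hp : p.Prime) (h5 : 5 ≤ p)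

include hq hp h5

/-- `G₂(q)` -/
theorem edat_g2 (he : orderOf ((q : ℕ) : ZMod p) = 1 ∨ orderOf ((q : ℕ) : ZMod p) = 2) :
    EDat p ↥(chevG2.group F) := by
  have hq2 := two_le_card hq
  have hq4 : 4 ≤ q := by
    have h1 : p ∣ q ^ 2 - 1 := by
      rcases he with he | he <;> exact (dvd_iff (by omega) he 2).2 (by norm_num)
    have h2 : q ^ 2 - 1 = (q - 1) * (q + 1) := by
      obtain ⟨t, rfl⟩ := Nat.exists_eq_add_of_le' hq2
      rw [show t + 2 - 1 = t + 1 by omega, show (t + 2) ^ 2 = (t + 1) * (t + 2 + 1) + 1 by ring]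
      rfl
    rw [h2, hp.dvd_mul] at h1
    rcases h1 with h1 | h1
    · have := Nat.le_of_dvd (by omega) h1
      omega
    · have := Nat.le_of_dvd (by omega) h1
      omega
  have hcen : center ↥(chevG2.group F) = ⊥ := by
    refine center_bot (S1055.result ?_)
    classical
    by_contra hcon
    push Not at hcon
    have h1 : (Finset.univ : Finset F) ⊆ {0, 1} := by
      intro a _
      rw [Finset.mem_insert, Finset.mem_singleton]
      exact or_iff_not_imp_left.2 fun h => hcon a h
    have h2 := (Finset.card_le_card h1).trans Finset.card_le_two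
    rw [Finset.card_univ, hq] at h2
    omega
  have hcard : Nat.card ↥(chevG2.group F) ∣ q ^ 6 * (([2, 6] : List ℕ).map fun d => q ^ d - 1).prod := by
    rw [S1059.result hq]
    simp only [List.map_cons, List.map_nil, List.prod_cons, List.prod_nil, mul_one, ← mul_assoc]
    exact dvd_rfl
  rcases he with he | he
  · exact row_one (by simp [InList]) hp hq he (by norm_num) h5 (by norm_num) hcen hcard
      (fun d hd hed => not_dvd_23 hp h5 (by revert d; decide)) (a := 0) (b := 4) (l := []) (by decide +kernel)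
      (by decide +kernel) (by decide)
  · exact row_one (by simp [InList]) hp hq he (by norm_num) h5 (by norm_num) hcen hcard
      (fun d hd hed => not_dvd_23 hp h5 (by revert d; decide)) (a := 0) (b := 4) (l := []) (by decide +kernel)
      (by decide +kernel) (by decide)

omit hq hp h5 in
theorem card_f4 (hq : Fintype.card F = q) : Nat.card ↥(chevF4.group F) ∣
    q ^ 24 * (([2, 6, 8, 12] : List ℕ).map fun d => q ^ d - 1).prod := by
  rw [S1062.result hq]
  simp only [List.map_cons, List.map_nil, List.prod_cons, List.prod_nil, mul_one, ← mul_assoc]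
  exact dvd_rfl

omit hq hp h5 in
theorem card_e6 (hq : Fintype.card F = q) : Nat.card ↥(chevE6.group F) ∣
    q ^ 36 * (([2, 5, 6, 8, 9, 12] : List ℕ).map fun d => q ^ d - 1).prod := by
  refine Dvd.intro_left (Nat.gcd 3 (q - 1)) ?_
  rw [S1063.result hq]
  simp only [List.map_cons, List.map_nil, List.prod_cons, List.prod_nil, mul_one, ← mul_assoc]

omit hq hp h5 in
theorem card_e7 (hq : Fintype.card F = q) : Nat.card ↥(chevE7.group F) ∣
    q ^ 63 * (([2, 6, 8, 10, 12, 14, 18] : List ℕ).map fun d => q ^ d - 1).prod := by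
  refine Dvd.intro_left (Nat.gcd 2 (q - 1)) ?_
  rw [S1064.result hq]
  simp only [List.map_cons, List.map_nil, List.prod_cons, List.prod_nil, mul_one, ← mul_assoc]

omit hq hp h5 in
theorem card_e8 (hq : Fintype.card F = q) : Nat.card ↥(chevE8.group F) ∣
    q ^ 120 * (([2, 8, 12, 14, 18, 20, 24, 30] : List ℕ).map fun d => q ^ d - 1).prod := by
  rw [S1065.result hq]
  simp only [List.map_cons, List.map_nil, List.prod_cons, List.prod_nil, mul_one, ← mul_assoc]
  exact dvd_rfl

omit hq hp h5 in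
theorem cen_of {D : ChevalleyDatum} (hD : D ∈ [chevD4, chevF4, chevE6, chevE7, chevE8]) :
    center ↥(D.group F) = ⊥ := center_bot (S1054.result D hD)

/-- `F₄(q)` -/
theorem edat_f4 (he : orderOf ((q : ℕ) : ZMod p) = 1 ∨ orderOf ((q : ℕ) : ZMod p) = 2 ∨ orderOf ((q : ℕ) : ZMod p) = 3) :
    EDat p ↥(chevF4.group F) := by
  have hcen : center ↥(chevF4.group F) = ⊥ := cen_of (by simp)
  have hp3 : ¬ p ∣ 3 := not_dvd_23 hp h5 (by norm_num)
  rcases he with he | he | he
  · exact row_one (by simp [InList]) hp hq he (by norm_num) h5 (by norm_num) hcen (card_f4 hq)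
      (fun d hd hed => not_dvd_23 hp h5 (by revert d; decide)) (a := 0) (b := 6) (l := [17, 22]) (by decide +kernel)
      (by decide +kernel) (by decide)
  · exact row_one (by simp [InList]) hp hq he (by norm_num) h5 (by norm_num) hcen (card_f4 hq)
      (fun d hd hed => not_dvd_23 hp h5 (by revert d; decide)) (a := 0) (b := 6) (l := [17, 22]) (by decide +kernel)
      (by decide +kernel) (by decide)
  · refine row_an (by simp [InList]) hp hq he (by norm_num) hcen (j := 1) (n := 3) (by norm_num) hp3 (card_f4 hq)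
      (fun d hd hed => not_dvd_23 hp h5 (by revert d; decide))
      (a := [[0,0,1],[47,0,24],[46,23,0]]) (b := [[0,13,14],[34,0,27],[33,20,0]]) (l := []) ?_
      (by decide +kernel) one_ne_zero (sl_dvd hq (by norm_num) (by norm_num) (by norm_num)) (by decide)
    intro R hR
    refine ⟨[], ?_⟩
    simp only [List.mem_cons, List.not_mem_nil, or_false] at hR
    rcases hR with rfl | rfl <;> exact
      { lt := by decide +kernel, neg := by decide +kernel, comm := by decide +kernel, br := by decide +kernel }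

/-- `E₆(q)` -/
theorem edat_e6 (he : (orderOf ((q : ℕ) : ZMod p) = 1 ∧ p ≠ 5) ∨ orderOf ((q : ℕ) : ZMod p) = 2 ∨
    orderOf ((q : ℕ) : ZMod p) = 3) : EDat p ↥(chevE6.group F) := by
  have hcen : center ↥(chevE6.group F) = ⊥ := cen_of (by simp)
  have hp3 : ¬ p ∣ 3 := not_dvd_23 hp h5 (by norm_num)
  have hAn : ∀ R ∈ [[[0,0,1],[71,0,46],[70,25,0]], [[0,14,15],[57,0,42],[56,29,0]], [[0,33,34],[38,0,36],[37,35,0]]],
      ∃ σ, IsAn chevE6 3 R σ := by
    intro R hR
    refine ⟨[], ?_⟩
    simp only [List.mem_cons, List.not_mem_nil, or_false] at hR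
    rcases hR with rfl | rfl | rfl <;> exact
      { lt := by decide +kernel, neg := by decide +kernel, comm := by decide +kernel, br := by decide +kernel }
  rcases he with ⟨he, hp5⟩ | he | he
  · refine row_an (by simp [InList]) hp hq he (by norm_num) hcen (j := 2) (n := 3) (by norm_num) hp3 (card_e6 hq)
      (fun d hd hed => ?_) hAn (by decide +kernel) two_ne_zero (sl3_one hq) (by decide)
    intro h
    have h1 : d ∣ 2 ^ 10 * 3 ^ 10 ∨ d = 5 := by clear h; revert d; decide
    rw [Nat.div_one] at h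
    rcases h1 with h1 | h1
    · exact not_dvd_23 hp h5 h1 h
    · subst h1
      exact hp5 ((Nat.prime_dvd_prime_iff_eq hp (by norm_num)).1 h)
  · exact row_one (by simp [InList]) hp hq he (by norm_num) h5 (by norm_num) hcen (card_e6 hq)
      (fun d hd hed => not_dvd_23 hp h5 (by revert d; decide)) (a := 0) (b := 11) (l := [27, 32]) (by decide +kernel)
      (by decide +kernel) (by decide)
  · exact row_an (by simp [InList]) hp hq he (by norm_num) hcen (j := 1) (n := 3) (by norm_num) hp3 (card_e6 hq)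
      (fun d hd hed => not_dvd_23 hp h5 (by revert d; decide)) hAn
      (by decide +kernel) one_ne_zero (sl_dvd hq (by norm_num) (by norm_num) (by norm_num)) (by decide)

/-- `E₇(q)` -/
theorem edat_e7 (he : (orderOf ((q : ℕ) : ZMod p) ∣ 2 ∧ p ≠ 5 ∧ p ≠ 7) ∨ orderOf ((q : ℕ) : ZMod p) = 3 ∨
    orderOf ((q : ℕ) : ZMod p) = 4) : EDat p ↥(chevE7.group F) := by
  have hcen : center ↥(chevE7.group F) = ⊥ := cen_of (by simp)
  rcases he with ⟨he2, hp5, hp7⟩ | he | he
  · have he12 : orderOf ((q : ℕ) : ZMod p) = 1 ∨ orderOf ((q : ℕ) : ZMod p) = 2 :=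
      (Nat.dvd_prime Nat.prime_two).1 he2
    rcases he12 with he | he
    · exact row_one (by simp [InList]) hp hq he (by norm_num) h5 (by norm_num) hcen (card_e7 hq)
        (fun d hd hed => not_dvd_2357 hp h5 hp5 hp7 (by revert d; decide)) (a := 0) (b := 33)
        (l := [38, 47, 52, 59, 62]) (by decide +kernel) (by decide +kernel) (by decide)
    · exact row_one (by simp [InList]) hp hq he (by norm_num) h5 (by norm_num) hcen (card_e7 hq)
        (fun d hd hed => not_dvd_2357 hp h5 hp5 hp7 (by revert d; decide)) (a := 0) (b := 33)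
        (l := [38, 47, 52, 59, 62]) (by decide +kernel) (by decide +kernel) (by decide)
  · refine row_an (by simp [InList]) hp hq he (by norm_num) hcen (j := 1) (n := 3) (by norm_num)
      (not_dvd_23 hp h5 (by norm_num)) (card_e7 hq)
      (fun d hd hed => not_dvd_23 hp h5 (by revert d; decide))
      (a := [[0,0,1],[125,0,93],[124,32,0]]) (b := [[0,43,44],[82,0,63],[81,62,0]])
      (l := [[[0,55,56],[70,0,66],[69,59,0]]]) ?_
      (by decide +kernel) one_ne_zero (sl_dvd hq (by norm_num) (by norm_num) (by norm_num)) (by decide)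
    intro R hR
    refine ⟨[], ?_⟩
    simp only [List.mem_cons, List.not_mem_nil, or_false] at hR
    rcases hR with rfl | rfl | rfl <;> exact
      { lt := by decide +kernel, neg := by decide +kernel, comm := by decide +kernel, br := by decide +kernel }
  · refine row_an (by simp [InList]) hp hq he (by norm_num) hcen (j := 1) (n := 4) (by norm_num)
      (not_dvd_23 hp h5 (by norm_num)) (card_e7 hq)
      (fun d hd hed => not_dvd_23 hp h5 (by revert d; decide))
      (a := [[0,0,1,2],[125,0,93,94],[124,32,0,73],[123,31,52,0]])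
      (b := [[0,57,58,59],[68,0,63,65],[67,62,0,64],[66,60,61,0]]) (l := []) ?_
      (by decide +kernel) one_ne_zero (sl_dvd hq (by norm_num) (by norm_num) (by norm_num)) (by decide)
    intro R hR
    simp only [List.mem_cons, List.not_mem_nil, or_false] at hR
    rcases hR with rfl | rfl
    · exact ⟨[[1,1,1,1],[1,1,1,-1],[1,1,1,1],[1,-1,1,1]],
        { lt := by decide +kernel, neg := by decide +kernel, comm := by decide +kernel, br := by decide +kernel }⟩
    · exact ⟨[],
        { lt := by decide +kernel, neg := by decide +kernel, comm := by decide +kernel, br := by decide +kernel }⟩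

/-- `E₈(q)` -/
theorem edat_e8 (he : (orderOf ((q : ℕ) : ZMod p) ∣ 2 ∧ p ≠ 5 ∧ p ≠ 7) ∨ (orderOf ((q : ℕ) : ZMod p) = 3 ∧ p ≠ 5) ∨
    orderOf ((q : ℕ) : ZMod p) = 5) : EDat p ↥(chevE8.group F) := by
  have hcen : center ↥(chevE8.group F) = ⊥ := cen_of (by simp)
  rcases he with ⟨he2, hp5, hp7⟩ | ⟨he, hp5⟩ | he
  · have he12 : orderOf ((q : ℕ) : ZMod p) = 1 ∨ orderOf ((q : ℕ) : ZMod p) = 2 :=
      (Nat.dvd_prime Nat.prime_two).1 he2
    rcases he12 with he | he
    · exact row_one (by simp [InList]) hp hq he (by norm_num) h5 (by norm_num) hcen (card_e8 hq)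
        (fun d hd hed => not_dvd_2357 hp h5 hp5 hp7 (by revert d; decide)) (a := 0) (b := 13)
        (l := [80, 87, 98, 104, 113, 118]) (by decide +kernel) (by decide +kernel) (by decide)
    · exact row_one (by simp [InList]) hp hq he (by norm_num) h5 (by norm_num) hcen (card_e8 hq)
        (fun d hd hed => not_dvd_2357 hp h5 hp5 hp7 (by revert d; decide)) (a := 0) (b := 13)
        (l := [80, 87, 98, 104, 113, 118]) (by decide +kernel) (by decide +kernel) (by decide)
  · refine row_an (by simp [InList]) hp hq he (by norm_num) hcen (j := 1) (n := 3) (by norm_num)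
      (not_dvd_23 hp h5 (by norm_num)) (card_e8 hq) (fun d hd hed => ?_)
      (a := [[0,0,1],[239,0,120],[238,119,0]]) (b := [[0,35,45],[204,0,141],[194,98,0]])
      (l := [[[0,76,77],[163,0,135],[162,104,0]], [[0,112,113],[127,0,123],[126,116,0]]]) ?_
      (by decide +kernel) one_ne_zero (sl_dvd hq (by norm_num) (by norm_num) (by norm_num)) (by decide)
    · intro h
      have h1 : d / 3 ∣ 2 ^ 10 * 3 ^ 10 ∨ d / 3 = 2 * 5 := by clear h; revert d; decide
      rcases h1 with h1 | h1
      · exact not_dvd_23 hp h5 h1 h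
      · rw [h1, hp.dvd_mul] at h
        rcases h with h | h
        · exact not_dvd_23 hp h5 (by norm_num) h
        · exact hp5 ((Nat.prime_dvd_prime_iff_eq hp (by norm_num)).1 h)
    · intro R hR
      refine ⟨[], ?_⟩
      simp only [List.mem_cons, List.not_mem_nil, or_false] at hR
      rcases hR with rfl | rfl | rfl | rfl <;> exact
        { lt := by decide +kernel, neg := by decide +kernel, comm := by decide +kernel, br := by decide +kernel }
  · have hp5 : ¬ p ∣ 5 := by
      intro h
      have h1 := (Nat.prime_dvd_prime_iff_eq hp (by norm_num)).1 h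
      subst h1
      have : Fact (Nat.Prime 5) := ⟨hp⟩
      have h2 := pow_orderOf_eq_one ((q : ℕ) : ZMod 5)
      rw [he, ZMod.pow_card] at h2
      rw [h2, orderOf_one] at he
      omega
    refine row_an (by simp [InList]) hp hq he (by norm_num) hcen (j := 1) (n := 5) (by norm_num)
      hp5 (card_e8 hq)
      (fun d hd hed => not_dvd_23 hp h5 (by revert d; decide))
      (a := [[0,0,1,2,3],[239,0,120,122,125],[238,119,0,121,124],[237,117,118,0,123],[236,114,115,116,0]])
      (b := [[0,70,75,76,77],[169,0,141,142,147],[164,98,0,130,136],[163,97,109,0,135],[162,92,103,104,0]]) (l := []) ?_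
      (by decide +kernel) one_ne_zero (sl_dvd hq (by norm_num) (by norm_num) (by norm_num)) (by decide)
    intro R hR
    simp only [List.mem_cons, List.not_mem_nil, or_false] at hR
    rcases hR with rfl | rfl
    · exact ⟨[],
        { lt := by decide +kernel, neg := by decide +kernel, comm := by decide +kernel, br := by decide +kernel }⟩
    · exact ⟨[[1,1,1,1,1],[1,1,1,-1,1],[1,1,1,1,1],[1,-1,1,1,1],[1,1,1,1,1]],
        { lt := by decide +kernel, neg := by decide +kernel, comm := by decide +kernel, br := by decide +kernel }⟩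

end

end Cfsg.Agent.H122.S5
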